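import Cfsg.Agent.Lib.SolvStruct.Clt
import Cfsg.Agent.Lib.Frobenius.Theorem
import Cfsg.Agent.Lib.Core.Basic
import Cfsg.Agent.Lib.Solvable.Hall
import Cfsg.Agent.Lib.Solvable.HallRel
import Mathlib.GroupTheory.Nilpotent

/-!
Schmidt's theorem on minimal non-nilpotent groups.
-/

set_option autoImplicit false

namespace Cfsg.Agent.Lib.SolvStruct.Schmidt

open Subgroup
open scoped Pointwise

variable {G : Type*} [Group G]

/-- The normalizer condition in a nilpotent subgroup, expressed in the ambient group. -/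
theorem exists_mem_normalizer_of_lt (M D : Subgroup G) [hM : Group.IsNilpotent M] (h : D < M) :
    ∃ x ∈ M, x ∉ D ∧ x ∈ normalizer (D : Set G) := by
  have hlt : D.subgroupOf M < ⊤ := by
    rw [lt_top_iff_ne_top]
    intro htop
    have : M ≤ D := by
      intro x hx
      have hx' : (⟨x, hx⟩ : M) ∈ D.subgroupOf M := by rw [htop]; trivial
      exact hx'
    exact h.2 this
  have hnc := Group.normalizerCondition_of_isNilpotent (G := M) (D.subgroupOf M) hlt
  obtain ⟨⟨x, hxM⟩, hx1, hx2⟩ := SetLike.exists_of_lt hnc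
  refine ⟨x, hxM, fun hxD => hx2 hxD, ?_⟩
  rw [Subgroup.mem_normalizer_iff]
  intro y
  by_cases hy : y ∈ M
  · exact (Subgroup.mem_normalizer_iff.mp hx1) ⟨y, hy⟩
  · constructor
    · intro hyD
      exact absurd (h.1 hyD) hy
    · intro hyD
      have : y ∈ M := by
        have h1 := h.1 hyD
        have h2 : y = x⁻¹ * (x * y * x⁻¹) * x := by group
        rw [h2]
        exact M.mul_mem (M.mul_mem (M.inv_mem hxM) h1) hxM
      exact absurd this hy

/-- A normal maximal subgroup has prime index. -/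
theorem index_prime_of_coatom_normal [Finite G] (K : Subgroup G) (hK : IsCoatom K) [hn : K.Normal] :
    K.index.Prime := by
  have h1 : K.index ≠ 1 := fun h => hK.1 (Subgroup.index_eq_one.mp h)
  obtain ⟨r, hr, hrd⟩ := Nat.exists_prime_and_dvd h1
  haveI : Fact r.Prime := ⟨hr⟩
  rw [Subgroup.index_eq_card] at hrd
  obtain ⟨y, hy⟩ := exists_prime_orderOf_dvd_card' r hrd
  have hy1 : y ≠ 1 := by
    rintro rfl
    rw [orderOf_one] at hy
    exact hr.one_lt.ne hy
  have hc : (zpowers y).comap (QuotientGroup.mk' K) = ⊤ := by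
    apply hK.2
    refine lt_of_le_of_ne ?_ ?_
    · intro x hx
      have : (QuotientGroup.mk' K x) = 1 := (QuotientGroup.eq_one_iff x).mpr hx
      rw [Subgroup.mem_comap, this]
      exact one_mem _
    · intro heq
      obtain ⟨z, rfl⟩ := QuotientGroup.mk'_surjective K y
      have : z ∈ (zpowers (QuotientGroup.mk' K z)).comap (QuotientGroup.mk' K) :=
        Subgroup.mem_comap.mpr (mem_zpowers _)
      rw [← heq] at this
      exact hy1 ((QuotientGroup.eq_one_iff z).mpr this)
  have hz : zpowers y = ⊤ := by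
    rw [eq_top_iff]
    intro q _
    obtain ⟨z, rfl⟩ := QuotientGroup.mk'_surjective K q
    have : z ∈ (zpowers y).comap (QuotientGroup.mk' K) := by rw [hc]; trivial
    exact this
  rw [Subgroup.index_eq_card, ← Nat.card_congr (Equiv.subtypeUnivEquiv (fun x => by
    rw [hz]; trivial) : ↥(zpowers y) ≃ (G ⧸ K)), Nat.card_zpowers, hy]
  exact hr

/-- A simple non-abelian group cannot have all its proper subgroups nilpotent. -/
theorem false_of_simple [Finite G] (h : ∀ H : Subgroup G, H ≠ ⊤ → Group.IsNilpotent H)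
    (hs : ∀ N : Subgroup G, N.Normal → N = ⊥ ∨ N = ⊤) (hnc : ¬ ∀ x y : G, x * y = y * x) :
    False := by
  classical
  have hnt : Nontrivial G := by
    by_contra hcon
    rw [not_nontrivial_iff_subsingleton] at hcon
    exact hnc (fun x y => Subsingleton.elim _ _)
  -- `⊥` is not maximal
  have hbot : ¬ IsCoatom (⊥ : Subgroup G) := by
    intro hb
    obtain ⟨x, hx⟩ := exists_ne (1 : G)
    have : zpowers x = ⊤ := by
      apply hb.2
      rw [bot_lt_iff_ne_bot]
      intro h0
      apply hx
      exact zpowers_eq_bot.mp h0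
    apply hnc
    intro a b
    have ha : a ∈ zpowers x := by rw [this]; trivial
    have hb : b ∈ zpowers x := by rw [this]; trivial
    obtain ⟨i, rfl⟩ := ha
    obtain ⟨j, rfl⟩ := hb
    exact (Commute.refl x).zpow_zpow i j
  have hnotn : ∀ M : Subgroup G, IsCoatom M → ¬ M.Normal := by
    intro M hM hn
    rcases hs M hn with h0 | h0
    · rw [h0] at hM; exact hbot hM
    · exact hM.1 h0
  have hselfn : ∀ M : Subgroup G, IsCoatom M → normalizer (M : Set G) = M := by
    intro M hM
    by_contra hne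
    have hlt : M < normalizer (M : Set G) := lt_of_le_of_ne Subgroup.le_normalizer (Ne.symm hne)
    have := hM.2 _ hlt
    exact hnotn M hM (Subgroup.normalizer_eq_top_iff.mp this)
  have hconjco : ∀ (M : Subgroup G) (g : G), IsCoatom M → IsCoatom (MulAut.conj g • M) := by
    intro M g hM
    exact (OrderIso.isCoatom_iff ((MulAut.conj g).mapSubgroup) M).mpr hM
  obtain ⟨M, hM, -⟩ := (eq_top_or_exists_le_coatom (⊥ : Subgroup G)).resolve_left bot_ne_top
  let X : Set (Subgroup G) :=
    {D | ∃ M₁ M₂ : Subgroup G, IsCoatom M₁ ∧ IsCoatom M₂ ∧ M₁ ≠ M₂ ∧ D = M₁ ⊓ M₂ ∧ D ≠ ⊥}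
  have hX : X.Nonempty := by
    by_contra hcon
    rw [Set.not_nonempty_iff_eq_empty] at hcon
    have hMb : M ≠ ⊥ := fun h0 => hbot (h0 ▸ hM)
    have hF : Cfsg.IsFrobeniusComplement M := by
      refine ⟨hMb, hM.1, ?_⟩
      intro g hg
      by_contra hne
      have hmem : M ⊓ (MulAut.conj g • M) ∈ X := by
        refine ⟨M, _, hM, hconjco M g hM, ?_, rfl, hne⟩
        intro heq
        apply hg
        rw [← hselfn M hM]
        exact Cfsg.Agent.Lib.Solvable.HallRel.mem_normalizer_iff_conj.mpr heq.symm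
      rw [hcon] at hmem
      exact hmem
    have hk := Cfsg.Agent.Lib.Frobenius.Theorem.card_kernel hF
    have hcm := M.card_mul_index
    rcases hs (Cfsg.Agent.Lib.Frobenius.Theorem.kernel M) inferInstance with h0 | h0
    · rw [h0, Subgroup.card_bot] at hk
      exact hM.1 (Subgroup.index_eq_one.mp hk.symm)
    · rw [h0, Subgroup.card_top] at hk
      rw [← hk] at hcm
      have : Nat.card M = 1 := Nat.eq_of_mul_eq_mul_right Nat.card_pos (by rw [hcm, one_mul])
      exact hMb (Subgroup.card_eq_one.mp this)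
  have hwf : WellFoundedGT (Subgroup G) := inferInstance
  obtain ⟨D, hD, hmax⟩ := hwf.wf.has_min X hX
  obtain ⟨M₁, M₂, h₁, h₂, hne, hDe, hD1⟩ := hD
  have hDM₁ : D ≤ M₁ := hDe ▸ inf_le_left
  have hDM₂ : D ≤ M₂ := hDe ▸ inf_le_right
  have hNt : normalizer (D : Set G) ≠ ⊤ := by
    intro htop
    rcases hs D (Subgroup.normalizer_eq_top_iff.mp htop) with h0 | h0
    · exact hD1 h0
    · apply h₁.1
      rw [eq_top_iff, ← h0]
      exact hDM₁
  obtain ⟨M₃, h₃, hN₃⟩ := (eq_top_or_exists_le_coatom (normalizer (D : Set G))).resolve_left hNt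
  have key : ∀ K : Subgroup G, IsCoatom K → D < K → K = M₃ := by
    intro K hK hDK
    by_contra hKne
    haveI := h K hK.1
    obtain ⟨x, hxK, hxD, hxN⟩ := exists_mem_normalizer_of_lt K D hDK
    have hx3 : x ∈ M₃ := hN₃ hxN
    have hinf : K ⊓ M₃ ∈ X := by
      refine ⟨K, M₃, hK, h₃, hKne, rfl, ?_⟩
      intro h0
      have hx1 : x ∈ K ⊓ M₃ := ⟨hxK, hx3⟩
      rw [h0, Subgroup.mem_bot] at hx1
      apply hxD
      rw [hx1]
      exact one_mem _
    apply hmax _ hinf
    refine lt_of_le_of_ne (le_inf hDK.1 (Subgroup.le_normalizer.trans hN₃)) ?_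
    intro heq
    apply hxD
    rw [heq]
    exact ⟨hxK, hx3⟩
  have hlt₁ : D < M₁ := by
    refine lt_of_le_of_ne hDM₁ ?_
    intro heq
    have h12 : M₁ ≤ M₂ := heq ▸ hDM₂
    rcases eq_or_lt_of_le h12 with h3 | h3
    · exact hne h3
    · exact h₂.1 (h₁.2 _ h3)
  have hlt₂ : D < M₂ := by
    refine lt_of_le_of_ne hDM₂ ?_
    intro heq
    have h12 : M₂ ≤ M₁ := heq ▸ hDM₁
    rcases eq_or_lt_of_le h12 with h3 | h3
    · exact hne h3.symm
    · exact h₁.1 (h₂.2 _ h3)
  exact hne ((key M₁ h₁ hlt₁).trans (key M₂ h₂ hlt₂).symm)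

/-- A finite group all of whose proper subgroups are nilpotent is solvable. -/
theorem isSolvable_of_proper_nilpotent [Finite G]
    (h : ∀ H : Subgroup G, H ≠ ⊤ → Group.IsNilpotent H) : Group.IsSolvable G := by
  induction hn : Nat.card G using Nat.strong_induction_on generalizing G with
  | _ n ih =>
  subst hn
  by_cases hs : ∀ N : Subgroup G, N.Normal → N = ⊥ ∨ N = ⊤
  · by_cases hc : ∀ x y : G, x * y = y * x
    · letI : CommGroup G := { (inferInstance : Group G) with mul_comm := hc }
      infer_instance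
    · exact (false_of_simple h hs hc).elim
  · push Not at hs
    obtain ⟨N, hN, hN1, hN2⟩ := hs
    have hNnil := h N hN2
    have hcard : Nat.card N * Nat.card (G ⧸ N) = Nat.card G := by
      have := N.card_mul_index
      rwa [Subgroup.index_eq_card] at this
    have hN1' : 1 < Nat.card N := by
      have : Nontrivial N := (Subgroup.nontrivial_iff_ne_bot N).mpr hN1
      exact Finite.one_lt_card
    have hlt : Nat.card (G ⧸ N) < Nat.card G := by
      rw [← hcard]
      exact lt_mul_of_one_lt_left Nat.card_pos hN1'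
    have hQ : Group.IsSolvable (G ⧸ N) := by
      apply ih _ hlt _ rfl
      intro K hK
      have hK' : K.comap (QuotientGroup.mk' N) ≠ ⊤ := by
        intro htop
        apply hK
        rw [eq_top_iff]
        intro q _
        obtain ⟨z, rfl⟩ := QuotientGroup.mk'_surjective N q
        have : z ∈ K.comap (QuotientGroup.mk' N) := by rw [htop]; trivial
        exact this
      haveI := h _ hK'
      let f : ↥(K.comap (QuotientGroup.mk' N)) →* ↥K :=
        (QuotientGroup.mk' N).subgroupComap K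
      have hf : Function.Surjective f := by
        rintro ⟨q, hq⟩
        obtain ⟨z, rfl⟩ := QuotientGroup.mk'_surjective N q
        exact ⟨⟨z, hq⟩, rfl⟩
      exact Group.nilpotent_of_surjective f hf
    exact Group.isSolvable_of_ker_le_range N.subtype (QuotientGroup.mk' N) (by
      rw [QuotientGroup.ker_mk', Subgroup.range_subtype])

/-- In a finite nilpotent group, elements of coprime prime-power order commute. -/
theorem commute_of_isNilpotent {T : Type*} [Group T] [Finite T] (hT : Group.IsNilpotent T)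
    {p q : ℕ} [Fact p.Prime] [Fact q.Prime] (hpq : p ≠ q) {x y : T}
    (hx : ∃ k, orderOf x = p ^ k) (hy : ∃ k, orderOf y = q ^ k) : Commute x y := by
  have t := (Group.isNilpotent_of_finite_tfae (G := T)).out 0 3
  have hn := t.mp hT
  have hxp : IsPGroup p (zpowers x) := by
    obtain ⟨k, hk⟩ := hx
    exact IsPGroup.of_card (n := k) (by rw [Nat.card_zpowers, hk])
  have hyq : IsPGroup q (zpowers y) := by
    obtain ⟨k, hk⟩ := hy
    exact IsPGroup.of_card (n := k) (by rw [Nat.card_zpowers, hk])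
  obtain ⟨R, hR⟩ := hxp.exists_le_sylow
  obtain ⟨R', hR'⟩ := hyq.exists_le_sylow
  have hdis : Disjoint (R : Subgroup T) (R' : Subgroup T) :=
    IsPGroup.disjoint_of_ne p q hpq _ _ R.isPGroup' R'.isPGroup'
  exact Subgroup.commute_of_normal_of_disjoint _ _ (hn p ‹_› R) (hn q ‹_› R') hdis x y
    (hR (mem_zpowers x)) (hR' (mem_zpowers y))

/-- The order of an element of a `p`-subgroup is a power of `p`. -/
theorem orderOf_eq_pow_of_mem [Finite G] {p : ℕ} [Fact p.Prime] {S : Subgroup G} (hS : IsPGroup p S)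
    {x : G} (hx : x ∈ S) : ∃ k, orderOf x = p ^ k := by
  obtain ⟨n, hn⟩ := IsPGroup.iff_card.mp hS
  have h1 : orderOf x ∣ Nat.card S := Subgroup.orderOf_dvd_natCard S hx
  rw [hn] at h1
  obtain ⟨k, -, hk⟩ := (Nat.dvd_prime_pow (Fact.out)).mp h1
  exact ⟨k, hk⟩

/-- A subgroup containing the derived subgroup is normal. -/
theorem normal_of_commutator_le (K : Subgroup G) (h : commutator G ≤ K) : K.Normal := by
  constructor
  intro x hx g
  have h1 : g * x * g⁻¹ * x⁻¹ ∈ K := h (Subgroup.commutator_mem_commutator (Subgroup.mem_top g) (Subgroup.mem_top x))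
  have h2 : g * x * g⁻¹ = (g * x * g⁻¹ * x⁻¹) * x := by group
  rw [h2]
  exact K.mul_mem h1 hx

/-- **Schmidt's theorem.** -/
theorem schmidt [Finite G] (hG : Cfsg.IsMinimalNonNilpotent G) :
    ∃ p q : ℕ, p.Prime ∧ q.Prime ∧ p ≠ q ∧ ∃ (P : Sylow p G) (Q : Sylow q G),
      IsCyclic P ∧ (Q : Subgroup G).Normal ∧ (P : Subgroup G) ⊔ Q = ⊤ := by
  classical
  obtain ⟨hnil, hprop⟩ := hG
  haveI hsolv := isSolvable_of_proper_nilpotent hprop
  have t := (Group.isNilpotent_of_finite_tfae (G := G)).out 0 3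
  have hnt : Nontrivial G := by
    by_contra hcon
    rw [not_nontrivial_iff_subsingleton] at hcon
    exact hnil inferInstance
  have hcomm : commutator G ≠ ⊤ := by
    have := Group.IsSolvable.commutator_lt_of_ne_bot (G := G) (H := ⊤) top_ne_bot
    rw [commutator_def]
    exact this.ne
  obtain ⟨K, hK, hKc⟩ := (eq_top_or_exists_le_coatom (commutator G)).resolve_left hcomm
  haveI hKn : K.Normal := normal_of_commutator_le K hKc
  have hr := index_prime_of_coatom_normal K hK
  set r := K.index with hrdef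
  haveI : Fact r.Prime := ⟨hr⟩
  have hKnil := hprop K hK.1
  have hnorm : ∀ (q : ℕ) [Fact q.Prime], q ≠ r → ∀ Q : Sylow q G, (Q : Subgroup G).Normal := by
    intro q _ hqr Q
    have hqK : ¬ q ∣ K.index := fun hd =>
      hqr ((Nat.prime_dvd_prime_iff_eq Fact.out hr).mp hd)
    have hQK := Cfsg.Agent.Lib.SolvStruct.Clt.sylow_le_of_normal_of_coprime_index K hqK Q
    have tK := (Group.isNilpotent_of_finite_tfae (G := K)).out 0 3
    exact Cfsg.Agent.Lib.SolvStruct.Clt.sylow_normal_of_normal_in_normal K Q hQK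
      (fun Q' => tK.mp hKnil q ‹_› Q')
  obtain ⟨S⟩ : Nonempty (Sylow r G) := inferInstance
  have hSn : ¬ (S : Subgroup G).Normal := by
    intro hSn
    apply hnil
    apply t.mpr
    intro p hp P
    by_cases hpr : p = r
    · subst hpr
      letI := Sylow.unique_of_normal S hSn
      rw [Subsingleton.elim P S]
      exact hSn
    · exact hnorm p hpr P
  have hex : ∃ (q : ℕ) (_ : Fact q.Prime), q ≠ r ∧ ∃ Q : Sylow q G, ∃ x ∈ (S : Subgroup G),
      ∃ y ∈ (Q : Subgroup G), x * y ≠ y * x := by
    by_contra hcon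
    push Not at hcon
    apply hSn
    rw [← Subgroup.normalizer_eq_top_iff]
    apply Cfsg.Agent.Lib.Core.Basic.eq_top_of_forall_sylow_le
    intro p _
    by_cases hpr : p = r
    · subst hpr
      exact ⟨S, Subgroup.le_normalizer⟩
    · obtain ⟨Q⟩ : Nonempty (Sylow p G) := inferInstance
      refine ⟨Q, ?_⟩
      intro y hy
      rw [Subgroup.mem_normalizer_iff]
      intro z
      constructor
      · intro hz
        have : y * z * y⁻¹ = z := by
          rw [← hcon p ‹_› hpr Q z hz y hy]; group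
        rw [this]; exact hz
      · intro hz
        have h1 := hcon p ‹_› hpr Q _ hz y hy
        have h2 : y * z * y⁻¹ = z := by
          have h3 : y * (y * z * y⁻¹) * y⁻¹ = y * z * y⁻¹ := by
            rw [← h1]; group
          have h4 : y * (y * z * y⁻¹) * y⁻¹ = y * (y * z * y⁻¹ * y⁻¹) := by group
          rw [h4] at h3
          have h5 := mul_left_cancel (a := y) (b := y * z * y⁻¹ * y⁻¹) (c := z * y⁻¹) (by rw [h3]; group)
          exact mul_right_cancel h5
        rw [h2] at hz
        exact hz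
  obtain ⟨q, hqf, hqr, Q, x, hxS, y, hyQ, hxy⟩ := hex
  have hq : q.Prime := hqf.out
  have hQn := hnorm q hqr Q
  set T : Subgroup G := zpowers x ⊔ (Q : Subgroup G) with hT
  have hxT : x ∈ T := Subgroup.mem_sup_left (mem_zpowers x)
  have hyT : y ∈ T := Subgroup.mem_sup_right hyQ
  have hTtop : T = ⊤ := by
    by_contra hTne
    have hTnil := hprop T hTne
    have hc := commute_of_isNilpotent hTnil (Ne.symm hqr) (x := ⟨x, hxT⟩) (y := ⟨y, hyT⟩)
      (by rw [Subgroup.orderOf_mk]; exact orderOf_eq_pow_of_mem S.isPGroup' hxS)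
      (by rw [Subgroup.orderOf_mk]; exact orderOf_eq_pow_of_mem Q.isPGroup' hyQ)
    exact hxy (congrArg Subtype.val hc)
  have hSup : (S : Subgroup G) ⊔ Q = ⊤ := by
    rw [eq_top_iff, ← hTtop]
    exact sup_le_sup_right ((zpowers_le).mpr hxS) _
  have hzS : zpowers x ≤ (S : Subgroup G) := (zpowers_le).mpr hxS
  have hzp : IsPGroup r (zpowers x) := S.isPGroup'.to_le hzS
  have hdis1 : Disjoint (zpowers x) (Q : Subgroup G) :=
    IsPGroup.disjoint_of_ne r q (Ne.symm hqr) _ _ hzp Q.isPGroup'
  have hdis2 : Disjoint (S : Subgroup G) (Q : Subgroup G) :=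
    IsPGroup.disjoint_of_ne r q (Ne.symm hqr) _ _ S.isPGroup' Q.isPGroup'
  haveI := hQn
  have hc1 := Cfsg.Agent.Lib.Solvable.Hall.card_sup_mul_card_inf (zpowers x) (Q : Subgroup G)
  have hc2 := Cfsg.Agent.Lib.Solvable.Hall.card_sup_mul_card_inf (S : Subgroup G) (Q : Subgroup G)
  rw [hdis1.eq_bot, ← hT, hTtop, Subgroup.card_bot, mul_one] at hc1
  rw [hdis2.eq_bot, hSup, Subgroup.card_bot, mul_one, hc1] at hc2
  have hcard : Nat.card (zpowers x) = Nat.card (S : Subgroup G) :=
    Nat.eq_of_mul_eq_mul_right Nat.card_pos hc2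
  have hSx : zpowers x = (S : Subgroup G) := Subgroup.eq_of_le_of_card_ge hzS hcard.ge
  refine ⟨r, q, hr, hq, Ne.symm hqr, S, Q, ?_, hQn, hSup⟩
  rw [← hSx]
  infer_instance

end Cfsg.Agent.Lib.SolvStruct.Schmidt
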