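import Cfsg.Agent.Lib.Transfer.Hall
import Cfsg.Agent.Lib.Coprime.Action
import Cfsg.Agent.Lib.PLocal.ThompsonComplement
import Cfsg.Agent.Lib.Solvable.Misc1
import Cfsg.Agent.Lib.Solvable.Hall
import Cfsg.Agent.Lib.FPFThompson.Main
import Cfsg.Agent.Lib.Core.Residual

/-!
# Finite groups with a nilpotent maximal subgroup

Reduction of solvability of a group with a nilpotent maximal subgroup to the existence of normal
`p`-complements; the case of class at most two (elementary, via Frobenius' criterion: a maximal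
non-trivially acted `p`-subgroup contains its centralizer in a Sylow subgroup) and the case of odd
order (Thompson's normal `p`-complement theorem).
-/

set_option autoImplicit false
set_option linter.unusedSectionVars false

namespace Cfsg.Agent.Lib.SolvStruct.NilpMax

open Subgroup Cfsg
open scoped commutatorElement Pointwise
open Cfsg.Agent.Lib.Transfer.Basic Cfsg.Agent.Lib.Transfer.Frobenius
open Cfsg.Agent.Lib.Coprime.Action

universe u

variable {G : Type u} [Group G] [Finite G] {p : ℕ} [hpf : Fact p.Prime]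

/-- In a finite nilpotent group, `p`-elements commute with `p'`-elements. -/
theorem commute_of_nilpotent {T : Type*} [Group T] [Finite T] (hT : Group.IsNilpotent T)
    {x y : T} {k : ℕ} (hx : x ^ p ^ k = 1) (hy : (orderOf y).Coprime p) : Commute x y := by
  have hpc := Cfsg.Agent.Lib.FPFThompson.Main.hasNormalPComplement_of_nilpotent (X := T) p hT
  obtain ⟨S, hS⟩ : ∃ S : Sylow p T, x ∈ (S : Subgroup T) := by
    have hz : IsPGroup p (zpowers x) := by
      have h1 : orderOf x ∣ p ^ k := orderOf_dvd_of_pow_eq_one hx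
      obtain ⟨j, -, hj⟩ := (Nat.dvd_prime_pow hpf.out).1 h1
      exact IsPGroup.of_card (n := j) (by rw [Nat.card_zpowers, hj])
    obtain ⟨S, hS⟩ := hz.exists_le_sylow
    exact ⟨S, hS (mem_zpowers x)⟩
  have hSn : (S : Subgroup T).Normal := inferInstance
  have hyK : y ∈ pResidual p T := mem_pResidual_of_coprime p hy
  have hKn : (pResidual p T).Normal := pResidual_normal p
  have hc : ⁅x, y⁆ ∈ (S : Subgroup T) ⊓ pResidual p T :=
    Subgroup.commutator_le_inf _ _ (commutator_mem_commutator hS hyK)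
  have hbot : (S : Subgroup T) ⊓ pResidual p T = ⊥ := by
    rw [eq_bot_iff]
    intro z hz
    obtain ⟨j, hj⟩ := S.isPGroup' ⟨z, hz.1⟩
    have hzj : z ^ p ^ j = 1 := congrArg Subtype.val hj
    have hco : (orderOf z).Coprime p := (mem_pResidual_iff_of_hasNormalPComplement hpc z).1 hz.2
    rw [mem_bot]
    have h1 : orderOf z ∣ p ^ j := orderOf_dvd_of_pow_eq_one hzj
    have h2 : orderOf z = 1 := Nat.eq_one_of_dvd_coprimes (hco.pow_right j) dvd_rfl h1
    exact orderOf_eq_one_iff.1 h2
  rw [hbot, mem_bot, commutatorElement_eq_one_iff_mul_comm] at hc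
  exact hc

/-- In a finite nilpotent group every `p`-element lies in each Sylow `p`-subgroup. -/
theorem mem_sylow_of_nilpotent {T : Type*} [Group T] [Finite T] (hT : Group.IsNilpotent T)
    (S : Sylow p T) {x : T} {k : ℕ} (hx : x ^ p ^ k = 1) : x ∈ (S : Subgroup T) := by
  have hz : IsPGroup p (zpowers x) := by
    have h1 : orderOf x ∣ p ^ k := orderOf_dvd_of_pow_eq_one hx
    obtain ⟨j, -, hj⟩ := (Nat.dvd_prime_pow hpf.out).1 h1
    exact IsPGroup.of_card (n := j) (by rw [Nat.card_zpowers, hj])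
  obtain ⟨R, hR⟩ := hz.exists_le_sylow
  have hSn : (S : Subgroup T).Normal := inferInstance
  have hu := Sylow.unique_of_normal S hSn
  have hRS : R = S := Subsingleton.elim _ _
  rw [← hRS]
  exact hR (mem_zpowers x)

/-- The data at a prime dividing the order of a core-free nilpotent maximal subgroup. -/
theorem exists_sylow_data (M : Subgroup G) (hmax : IsCoatom M) (hnil : Group.IsNilpotent M)
    (hcore : ∀ N : Subgroup G, N.Normal → N ≤ M → N = ⊥) (hpM : p ∣ Nat.card M) :
    ∃ P : Sylow p G, (P : Subgroup G) ≤ M ∧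
      (∀ x ∈ M, ∀ k : ℕ, x ^ p ^ k = 1 → x ∈ (P : Subgroup G)) ∧
      (∀ x ∈ M, (orderOf x).Coprime p → ∀ t ∈ (P : Subgroup G), x * t = t * x) ∧
      (∀ X : Subgroup G, X ≤ P → X ≠ ⊥ → (P : Subgroup G) ≤ normalizer (X : Set G) →
        normalizer (X : Set G) = M) := by
  obtain ⟨S⟩ : Nonempty (Sylow p M) := inferInstance
  set T : Subgroup G := (S : Subgroup M).map M.subtype with hT
  have hTM : T ≤ M := by
    rintro _ ⟨x, -, rfl⟩
    exact x.2
  have hTp : IsPGroup p T := S.isPGroup'.map _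
  have hTne : T ≠ ⊥ := by
    intro h
    have : (S : Subgroup M) = ⊥ := by
      rw [hT] at h
      exact (Subgroup.map_eq_bot_iff_of_injective _ M.subtype_injective).1 h
    exact S.ne_bot_of_dvd_card hpM this
  have hpel : ∀ x ∈ M, ∀ k : ℕ, x ^ p ^ k = 1 → x ∈ T := by
    intro x hx k hk
    have : (⟨x, hx⟩ : M) ∈ (S : Subgroup M) :=
      mem_sylow_of_nilpotent hnil S (k := k) (Subtype.ext (by simpa using hk))
    exact ⟨⟨x, hx⟩, this, rfl⟩
  have hcomm : ∀ x ∈ M, (orderOf x).Coprime p → ∀ t ∈ T, x * t = t * x := by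
    rintro x hx hco _ ⟨t, ht, rfl⟩
    obtain ⟨j, hj⟩ := S.isPGroup' ⟨t, ht⟩
    have htj : t ^ p ^ j = 1 := congrArg Subtype.val hj
    have hco' : (orderOf (⟨x, hx⟩ : M)).Coprime p := by rwa [Subgroup.orderOf_mk]
    have := commute_of_nilpotent hnil htj hco'
    exact (congrArg Subtype.val this).symm
  -- normalizers
  have hnorm : ∀ X : Subgroup G, X ≤ T → X ≠ ⊥ → T ≤ normalizer (X : Set G) →
      normalizer (X : Set G) = M := by
    intro X hXT hX hTX
    have hMle : M ≤ normalizer (X : Set G) := by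
      intro m hm
      obtain ⟨a, b, hab, hc, ⟨k, hk⟩, hb, ha', hb'⟩ :=
        Cfsg.Agent.Lib.Core.Residual.exists_pPart_pPrimePart p m (isOfFinOrder_of_finite m)
      have haM : a ∈ M := (Subgroup.zpowers_le.2 hm) ha'
      have hbM : b ∈ M := (Subgroup.zpowers_le.2 hm) hb'
      rw [← hab]
      refine Subgroup.mul_mem _ (hTX (hpel a haM k hk)) ?_
      refine Cfsg.Agent.Lib.Core.CoprimeMap.mem_normalizer_of_forall_conj_mem ?_
      intro h hh
      have e : b * h * b⁻¹ = h := by rw [hcomm b hbM hb h (hXT hh)]; group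
      rw [e]
      exact hh
    by_contra hne
    have hlt : M < normalizer (X : Set G) := lt_of_le_of_ne hMle (Ne.symm hne)
    have htop := hmax.2 _ hlt
    have hXn : X.Normal := Subgroup.normalizer_eq_top_iff.1 htop
    exact hX (hcore X hXn (hXT.trans hTM))
  -- `T` is Sylow
  obtain ⟨R, hR⟩ := hTp.exists_le_sylow
  have hTR : T = R := by
    by_contra hne
    have hlt : T < R := lt_of_le_of_ne hR hne
    obtain ⟨x, hxR, hxT, hxN⟩ := exists_mem_normalizer_of_lt R.isPGroup' hlt
    have hxM : x ∈ M := by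
      rw [← hnorm T le_rfl hTne Subgroup.le_normalizer]
      exact hxN
    obtain ⟨k, hk⟩ := R.isPGroup' ⟨x, hxR⟩
    exact hxT (hpel x hxM k (congrArg Subtype.val hk))
  refine ⟨R, hTR ▸ hTM, ?_, ?_, ?_⟩
  · rw [← hTR]; exact hpel
  · rw [← hTR]; exact hcomm
  · rw [← hTR]; exact hnorm


/-- Solvability from the existence of the normal complements. -/
theorem isSolvable_of_complements (M : Subgroup G) (hmax : IsCoatom M) (hnil : Group.IsNilpotent M)
    (hP : ∀ q : ℕ, q.Prime → q ∣ Nat.card M → ∃ (_ : Fact q.Prime) (P : Sylow q G), (P : Subgroup G) ≤ M)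
    (hpc : ∀ q : ℕ, q.Prime → q ∣ Nat.card M → HasNormalPComplement q G) :
    Group.IsSolvable G := by
  have hHall : Nat.Coprime (Nat.card M) M.index := by
    apply Nat.coprime_of_dvd
    intro q hq h1 h2
    obtain ⟨hf, P, hPM⟩ := hP q hq h1
    have h3 : (P : Subgroup G).relIndex M * M.index = (P : Subgroup G).index :=
      Subgroup.relIndex_mul_index hPM
    exact P.not_dvd_index (h3 ▸ Dvd.dvd.mul_left h2 _)
  obtain ⟨K, hKn, hK⟩ :=
    Cfsg.Agent.Lib.Transfer.Hall.exists_normal_complement_of_forall_prime M hHall hpc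
  have hsup : K ⊔ M = ⊤ := hK.sup_eq_top
  have hdisj : K ⊓ M = ⊥ := hK.disjoint.eq_bot
  have hcard : Nat.card K = M.index := by
    have h1 := hK.card_mul_card
    have h2 := M.card_mul_index
    have hpos : 0 < Nat.card M := Nat.card_pos
    have : Nat.card K * Nat.card M = M.index * Nat.card M := by rw [h1, mul_comm M.index, h2]
    exact Nat.eq_of_mul_eq_mul_right hpos this
  have hcop : (Nat.card M).Coprime (Nat.card K) := by rw [hcard]; exact hHall
  have hKne : K ≠ ⊥ := by
    intro h
    rw [h, bot_sup_eq] at hsup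
    exact hmax.1 hsup
  have hK1 : Nat.card K ≠ 1 := by
    intro h
    exact hKne (Subgroup.card_eq_one.1 h)
  obtain ⟨q, hq, hqK⟩ := Nat.exists_prime_and_dvd hK1
  have hqf : Fact q.Prime := ⟨hq⟩
  have : Group.IsSolvable M := inferInstance
  have hAK : M ≤ normalizer (K : Set G) := by
    rw [Subgroup.normalizer_eq_top_iff.2 hKn]
    exact le_top
  obtain ⟨Q, hQ, hMQ⟩ := exists_invariant_sylowIn (p := q) (A := M) (K := K) hAK hcop
    (Or.inl inferInstance)
  have hQne : Q ≠ ⊥ := by
    rintro rfl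
    apply hQ.2.2
    rw [Subgroup.relIndex_bot_left]
    exact hqK
  have hQM : ¬ Q ≤ M := by
    intro h
    apply hQne
    rw [eq_bot_iff, ← hdisj]
    exact le_inf hQ.1 h
  have hQn : Q.Normal := by
    have hN : normalizer (Q : Set G) ≠ M := by
      intro h
      apply hQM
      rw [← h]
      exact Subgroup.le_normalizer
    have hlt : M < normalizer (Q : Set G) := lt_of_le_of_ne hMQ (Ne.symm hN)
    exact Subgroup.normalizer_eq_top_iff.1 (hmax.2 _ hlt)
  have htop : M ⊔ Q = ⊤ := by
    apply hmax.2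
    refine lt_of_le_of_ne le_sup_left ?_
    intro h
    exact hQM (h ▸ le_sup_right)
  have hKQ : K ≤ Q := by
    intro k hk
    have hkt : k ∈ M ⊔ Q := htop ▸ mem_top k
    obtain ⟨m, hm, y, hy, rfl⟩ := Subgroup.mem_sup_of_normal_right.1 hkt
    have hmK : m ∈ K := by
      have : m = (m * y) * y⁻¹ := by group
      rw [this]
      exact K.mul_mem hk (K.inv_mem (hQ.1 hy))
    have hm1 : m ∈ K ⊓ M := ⟨hmK, hm⟩
    rw [hdisj, mem_bot] at hm1
    rw [hm1, one_mul]
    exact hy
  have hKp : IsPGroup q K := hQ.2.1.to_le hKQ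
  have : Group.IsNilpotent K := hKp.isNilpotent
  have : Group.IsSolvable K := inferInstance
  have : Group.IsSolvable (G ⧸ K) := by
    let f : M →* G ⧸ K := (QuotientGroup.mk' K).comp M.subtype
    refine Group.isSolvable_of_surjective (f := f) ?_
    intro x
    obtain ⟨g, rfl⟩ := QuotientGroup.mk'_surjective K x
    have hg : g ∈ K ⊔ M := hsup ▸ mem_top g
    obtain ⟨k, hk, m, hm, rfl⟩ := Subgroup.mem_sup_of_normal_left.1 hg
    refine ⟨⟨m, hm⟩, ?_⟩
    show (QuotientGroup.mk' K) m = (QuotientGroup.mk' K) (k * m)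
    have hk1 : (QuotientGroup.mk' K) k = 1 := (QuotientGroup.eq_one_iff k).2 hk
    rw [map_mul, hk1, one_mul]
  exact Group.isSolvable_of_ker_le_range K.subtype (QuotientGroup.mk' K) (by
    intro x hx
    rw [MonoidHom.mem_ker, QuotientGroup.mk'_apply, QuotientGroup.eq_one_iff] at hx
    exact ⟨⟨x, hx⟩, rfl⟩)

/-- The induction: a property of maximal subgroups stable under homomorphic images. -/
theorem isSolvable_of_step (𝒬 : ∀ (X : Type u) [Group X], Subgroup X → Prop)
    (hmap : ∀ (X Y : Type u) [Group X] [Group Y] [Finite X] [Finite Y] (f : X →* Y) (M : Subgroup X),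
      𝒬 X M → 𝒬 Y (M.map f))
    (hstep : ∀ (X : Type u) [Group X] [Finite X] (M : Subgroup X) (q : ℕ) [Fact q.Prime]
      (P : Sylow q X), 𝒬 X M → Group.IsNilpotent M → (P : Subgroup X) ≤ M →
      (∀ x ∈ M, (orderOf x).Coprime q → ∀ t ∈ (P : Subgroup X), x * t = t * x) →
      (∀ Y : Subgroup X, Y ≤ P → Y ≠ ⊥ → (P : Subgroup X) ≤ normalizer (Y : Set X) →
        normalizer (Y : Set X) = M) → HasNormalPComplement q X) :
    ∀ (n : ℕ) (G : Type u) [Group G] [Finite G] (M : Subgroup G), IsCoatom M → Group.IsNilpotent M →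
      𝒬 G M → Nat.card G = n → Group.IsSolvable G := by
  intro n
  induction n using Nat.strong_induction_on with
  | _ n ih =>
    intro G _ _ M hmax hnil hQ hn
    by_cases hcore : ∀ N : Subgroup G, N.Normal → N ≤ M → N = ⊥
    · refine isSolvable_of_complements M hmax hnil ?_ ?_
      · intro q hq hqM
        have hf : Fact q.Prime := ⟨hq⟩
        obtain ⟨P, hPM, -⟩ := exists_sylow_data (p := q) M hmax hnil hcore hqM
        exact ⟨hf, P, hPM⟩
      · intro q hq hqM
        have hf : Fact q.Prime := ⟨hq⟩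
        obtain ⟨P, hPM, -, hcomm, hnorm⟩ := exists_sylow_data (p := q) M hmax hnil hcore hqM
        exact hstep G M q P hQ hnil hPM hcomm hnorm
    · push Not at hcore
      obtain ⟨N, hNn, hNM, hNne⟩ := hcore
      have := hNn
      have hcoat : IsCoatom (M.map (QuotientGroup.mk' N)) :=
        Cfsg.Agent.Lib.Solvable.Misc1.isCoatom_map_mk' hmax hNM
      have hnil' : Group.IsNilpotent (M.map (QuotientGroup.mk' N)) := by
        let f : M →* M.map (QuotientGroup.mk' N) :=
          (QuotientGroup.mk' N).subgroupMap M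
        exact Group.nilpotent_of_surjective f ((QuotientGroup.mk' N).subgroupMap_surjective M)
      have hlt : Nat.card (G ⧸ N) < n := by
        have h1 := N.card_mul_index
        rw [Subgroup.index_eq_card] at h1
        have h2 : 1 < Nat.card N := by
          have : Nat.card N ≠ 1 := fun h => hNne (Subgroup.card_eq_one.1 h)
          have h3 : 0 < Nat.card N := Nat.card_pos
          omega
        have h4 : 0 < Nat.card (G ⧸ N) := Nat.card_pos
        rw [← hn, ← h1]
        nlinarith
      have hq : Group.IsSolvable (G ⧸ N) :=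
        ih _ hlt (G ⧸ N) _ hcoat hnil' (hmap G (G ⧸ N) _ M hQ) rfl
      have : Group.IsSolvable M := inferInstance
      have : Group.IsSolvable N :=
        Group.isSolvable_of_isSolvable_injective (f := Subgroup.inclusion hNM)
          (Subgroup.inclusion_injective hNM)
      exact Group.isSolvable_of_ker_le_range N.subtype (QuotientGroup.mk' N) (by
        intro x hx
        rw [MonoidHom.mem_ker, QuotientGroup.mk'_apply, QuotientGroup.eq_one_iff] at hx
        exact ⟨⟨x, hx⟩, rfl⟩)


/-- A `p`-subgroup on which some `p'`-element of its normalizer acts nontrivially. -/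
def Bad (p : ℕ) (D : Subgroup G) : Prop :=
  IsPGroup p D ∧ ∃ g ∈ normalizer (D : Set G), (orderOf g).Coprime p ∧
    g ∉ centralizer (D : Set G)

theorem Bad.conj {D : Subgroup G} (h : G) (hD : Bad p D) : Bad p (MulAut.conj h • D) := by
  obtain ⟨hDp, g, hgN, hgco, hgC⟩ := hD
  refine ⟨?_, h * g * h⁻¹, ?_, ?_, ?_⟩
  · rw [Subgroup.pointwise_smul_def]
    exact hDp.map _
  · rw [mem_normalizer_conj_iff]
    have e : h⁻¹ * (h * g * h⁻¹) * h = g := by group
    rwa [e]
  · have : orderOf (h * g * h⁻¹) = orderOf g := by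
      simpa using (MulAut.conj h).orderOf_eq g
    rwa [this]
  · intro hc
    apply hgC
    rw [Subgroup.mem_centralizer_iff] at hc ⊢
    intro x hx
    have hx' : h * x * h⁻¹ ∈ (MulAut.conj h • D : Subgroup G) := by
      rw [Cfsg.Agent.Lib.Solvable.Hall.mem_conj_smul_iff]
      have e : h⁻¹ * (h * x * h⁻¹) * h = x := by group
      rwa [e]
    have h1 := hc _ (SetLike.mem_coe.2 hx')
    have h2 : h * (x * g) * h⁻¹ = h * (g * x) * h⁻¹ := by
      calc h * (x * g) * h⁻¹ = (h * x * h⁻¹) * (h * g * h⁻¹) := by group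
        _ = (h * g * h⁻¹) * (h * x * h⁻¹) := h1
        _ = h * (g * x) * h⁻¹ := by group
    have h3 := mul_left_cancel (mul_right_cancel h2)
    exact h3

/-- A bad subgroup of largest order contains all `p`-subgroups of its centralizer. -/
theorem le_of_max_bad {D : Subgroup G} (hD : Bad p D)
    (hmaxD : ∀ D' : Subgroup G, Bad p D' → Nat.card D' ≤ Nat.card D) {R : Subgroup G}
    (hR : IsPGroup p R) (hRC : R ≤ centralizer (D : Set G)) : R ≤ D := by
  classical
  obtain ⟨hDp, g, hgN, hgco, hgC⟩ := hD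
  set C : Subgroup G := centralizer (D : Set G) with hC
  have hRC' : IsPGroup p (R.subgroupOf C) := hR.comap_subtype
  obtain ⟨S, hS⟩ := hRC'.exists_le_sylow
  set S₁ : Subgroup G := (S : Subgroup C).map C.subtype with hS₁def
  have hS₁ : IsSylowIn p S₁ C := isSylowIn_map S
  have hRS : R ≤ S₁ := fun x hx =>
    ⟨⟨x, hRC hx⟩, hS (Subgroup.mem_subgroupOf.2 hx), rfl⟩
  have hCN : C ≤ normalizer (D : Set G) := by
    intro c hc
    refine Cfsg.Agent.Lib.Core.CoprimeMap.mem_normalizer_of_forall_conj_mem ?_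
    intro x hx
    have : c * x * c⁻¹ = x := (mem_centralizer_iff' (D := D)).1 hc x hx
    rw [this]
    exact hx
  have hconjD : ∀ u ∈ normalizer (D : Set G), ∀ x ∈ D, u * x * u⁻¹ ∈ D := fun u hu x hx =>
    (Subgroup.mem_normalizer_iff.1 hu x).1 hx
  have hgNC : g ∈ normalizer (C : Set G) := by
    refine Cfsg.Agent.Lib.Core.CoprimeMap.mem_normalizer_of_forall_conj_mem ?_
    intro c hc
    rw [hC, mem_centralizer_iff']
    intro x hx
    have hx' : g⁻¹ * x * g ∈ D := by
      have := hconjD g⁻¹ (Subgroup.inv_mem _ hgN) x hx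
      simpa using this
    have h1 : c * (g⁻¹ * x * g) * c⁻¹ = g⁻¹ * x * g := (mem_centralizer_iff' (D := D)).1 hc _ hx'
    calc g * c * g⁻¹ * x * (g * c * g⁻¹)⁻¹ = g * (c * (g⁻¹ * x * g) * c⁻¹) * g⁻¹ := by group
      _ = g * (g⁻¹ * x * g) * g⁻¹ := by rw [h1]
      _ = x := by group
  obtain ⟨k, hk, hk'⟩ := hS₁.exists_conj (hS₁.conj_of_mem_normalizer hgNC)
  have hnS : k⁻¹ * g ∈ normalizer (S₁ : Set G) := by
    apply mem_normalizer_of_conj_smul_eq
    rw [map_mul, mul_smul, ← hk', smul_smul, ← map_mul]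
    simp
  set n : G := k⁻¹ * g with hn
  have hkinv : k⁻¹ ∈ C := C.inv_mem hk
  have hnD : n ∈ normalizer (D : Set G) := Subgroup.mul_mem _ (hCN hkinv) hgN
  obtain ⟨a, b, hab, hc, ⟨j, hj⟩, hb, ha', hb'⟩ :=
    Cfsg.Agent.Lib.Core.Residual.exists_pPart_pPrimePart p n (isOfFinOrder_of_finite n)
  have hbS : b ∈ normalizer (S₁ : Set G) := (Subgroup.zpowers_le.2 hnS) hb'
  have hbD : b ∈ normalizer (D : Set G) := (Subgroup.zpowers_le.2 hnD) hb'
  have haD : a ∈ normalizer (D : Set G) := (Subgroup.zpowers_le.2 hnD) ha'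
  have hbC : b ∉ C := by
    intro hbC
    apply hgC
    have hact : ∀ x ∈ D, g * x * g⁻¹ = a * x * a⁻¹ := by
      intro x hx
      have e1 : g = k * (a * b) := by rw [hab, hn]; group
      have h1 : b * x * b⁻¹ = x := (mem_centralizer_iff' (D := D)).1 hbC x hx
      have h2 : k * (a * x * a⁻¹) * k⁻¹ = a * x * a⁻¹ :=
        (mem_centralizer_iff' (D := D)).1 hk _ (hconjD a haD x hx)
      calc g * x * g⁻¹ = k * (a * (b * x * b⁻¹) * a⁻¹) * k⁻¹ := by rw [e1]; group
        _ = k * (a * x * a⁻¹) * k⁻¹ := by rw [h1]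
        _ = a * x * a⁻¹ := h2
    have hpow : ∀ i : ℕ, ∀ x ∈ D, g ^ i * x * (g ^ i)⁻¹ = a ^ i * x * (a ^ i)⁻¹ := by
      intro i
      induction i with
      | zero => intro x _; simp
      | succ i ih =>
        intro x hx
        have h1 := ih x hx
        have h2 := hact (a ^ i * x * (a ^ i)⁻¹)
          (by
            have hai : a ^ i ∈ normalizer (D : Set G) := Subgroup.pow_mem _ haD i
            exact hconjD _ hai x hx)
        calc g ^ (i + 1) * x * (g ^ (i + 1))⁻¹ = g * (g ^ i * x * (g ^ i)⁻¹) * g⁻¹ := by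
              rw [pow_succ']; group
          _ = g * (a ^ i * x * (a ^ i)⁻¹) * g⁻¹ := by rw [h1]
          _ = a * (a ^ i * x * (a ^ i)⁻¹) * a⁻¹ := h2
          _ = a ^ (i + 1) * x * (a ^ (i + 1))⁻¹ := by rw [pow_succ']; group
    have hgpow : g ^ p ^ j ∈ C := by
      rw [hC, mem_centralizer_iff']
      intro x hx
      rw [hpow _ x hx, hj]
      simp
    exact Cfsg.Agent.Lib.PLocal.ThompsonComplement.mem_of_pow_mem_of_coprime hgco hgpow
  -- the larger bad subgroup
  have hS₁N : S₁ ≤ normalizer (D : Set G) := hS₁.1.trans hCN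
  have hD₂p : IsPGroup p ((D ⊔ S₁ : Subgroup G)) := hDp.to_sup_of_normal_left' hS₁.2.1 hS₁N
  have hbD₂ : b ∈ normalizer ((D ⊔ S₁ : Subgroup G) : Set G) := by
    apply mem_normalizer_of_conj_smul_eq
    rw [Subgroup.smul_sup, conj_smul_self_of_mem_normalizer hbD,
      conj_smul_self_of_mem_normalizer hbS]
  have hbad : Bad p (D ⊔ S₁ : Subgroup G) := by
    refine ⟨hD₂p, b, hbD₂, hb, ?_⟩
    intro h
    exact hbC (Subgroup.centralizer_le (SetLike.coe_subset_coe.2 le_sup_left) h)
  have hcard := hmaxD _ hbad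
  have heq : D = D ⊔ S₁ := Subgroup.eq_of_le_of_card_ge le_sup_left hcard
  have hle : S₁ ≤ D := by
    rw [heq]
    exact le_sup_right
  exact hRS.trans hle

/-- Frobenius' criterion in a group with a Sylow subgroup of class at most two all of whose
nontrivial normal subgroups have a given normalizer `M` whose `p'`-elements centralize the Sylow
subgroup. -/
theorem hasNormalPComplement_of_class_two (M : Subgroup G) (P : Sylow p G)
    (hcl : ∀ a ∈ (P : Subgroup G), ∀ b ∈ (P : Subgroup G), ∀ c ∈ (P : Subgroup G),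
      ⁅a, b⁆ * c = c * ⁅a, b⁆)
    (hcomm : ∀ x ∈ M, (orderOf x).Coprime p → ∀ t ∈ (P : Subgroup G), x * t = t * x)
    (hnorm : ∀ Y : Subgroup G, Y ≤ P → Y ≠ ⊥ → (P : Subgroup G) ≤ normalizer (Y : Set G) →
      normalizer (Y : Set G) = M) : HasNormalPComplement p G := by
  classical
  apply hasNormalPComplement_of_frobeniusCond
  by_contra hF
  have hex : ∃ D : Subgroup G, Bad p D := by
    by_contra hne
    apply hF
    intro D hD g hg hco
    by_contra hgC
    exact hne ⟨D, hD, g, hg, hco, hgC⟩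
  obtain ⟨D₀, hD₀⟩ := hex
  haveI : Nonempty {D : Subgroup G // Bad p D} := ⟨⟨D₀, hD₀⟩⟩
  obtain ⟨⟨D₁, hD₁⟩, hmax₁⟩ := Finite.exists_max (fun D : {D : Subgroup G // Bad p D} => Nat.card D.1)
  obtain ⟨R, hR⟩ := hD₁.1.exists_le_sylow
  obtain ⟨h, hh⟩ := MulAction.exists_smul_eq G R P
  set D : Subgroup G := MulAut.conj h • D₁ with hDdef
  have hD : Bad p D := hD₁.conj h
  have hcardD : Nat.card D = Nat.card D₁ := Cfsg.Agent.Lib.Solvable.Hall.card_conj_smul h D₁
  have hmaxD : ∀ D' : Subgroup G, Bad p D' → Nat.card D' ≤ Nat.card D := by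
    intro D' hD'
    rw [hcardD]
    exact hmax₁ ⟨D', hD'⟩
  have hDP : D ≤ P := by
    rw [← hh, Sylow.coe_subgroup_smul]
    exact Subgroup.pointwise_smul_le_pointwise_smul_iff.2 hR
  -- the centre of `P` lies in `D`
  have hPC : ∀ z ∈ (P : Subgroup G), (∀ c ∈ (P : Subgroup G), z * c = c * z) → z ∈ D := by
    intro z hz hzc
    have hle : (P : Subgroup G) ⊓ centralizer ((P : Subgroup G) : Set G) ≤ D := by
      refine le_of_max_bad hD hmaxD (P.isPGroup'.to_le inf_le_left) ?_
      intro y hy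
      exact Subgroup.centralizer_le (SetLike.coe_subset_coe.2 hDP) hy.2
    refine hle (Subgroup.mem_inf.2 ⟨hz, Subgroup.mem_centralizer_iff.2 ?_⟩)
    intro c hc
    exact (hzc c hc).symm
  have hPN : (P : Subgroup G) ≤ normalizer (D : Set G) := by
    intro u hu
    refine Cfsg.Agent.Lib.Core.CoprimeMap.mem_normalizer_of_forall_conj_mem ?_
    intro x hx
    have h1 : ⁅u, x⁆ ∈ D := by
      apply hPC
      · exact (P : Subgroup G).mul_mem ((P : Subgroup G).mul_mem ((P : Subgroup G).mul_mem hu (hDP hx))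
          ((P : Subgroup G).inv_mem hu)) ((P : Subgroup G).inv_mem (hDP hx))
      · intro c hc
        exact hcl u hu x (hDP hx) c hc
    have e : u * x * u⁻¹ = ⁅u, x⁆ * x := by
      rw [commutatorElement_def]; group
    rw [e]
    exact D.mul_mem h1 hx
  obtain ⟨hDp, g, hgN, hgco, hgC⟩ := hD
  have hDne : D ≠ ⊥ := by
    intro h0
    apply hgC
    rw [h0, Subgroup.mem_centralizer_iff]
    intro x hx
    have : x = 1 := by simpa using hx
    rw [this]; simp
  have hN := hnorm D hDP hDne hPN
  rw [hN] at hgN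
  apply hgC
  rw [Subgroup.mem_centralizer_iff]
  intro x hx
  exact (hcomm g hgN hgco x (hDP hx)).symm

/-- Thompson's criterion applied to a nilpotent maximal subgroup. -/
theorem hasNormalPComplement_of_odd (hp : p ≠ 2) (M : Subgroup G) (hnil : Group.IsNilpotent M)
    (P : Sylow p G) (hP1 : (P : Subgroup G) ≠ ⊥)
    (hnorm : ∀ Y : Subgroup G, Y ≤ P → Y ≠ ⊥ → (P : Subgroup G) ≤ normalizer (Y : Set G) →
      normalizer (Y : Set G) = M) : HasNormalPComplement p G := by
  have hM : HasNormalPComplement p M :=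
    Cfsg.Agent.Lib.FPFThompson.Main.hasNormalPComplement_of_nilpotent p hnil
  refine Cfsg.Agent.Lib.PLocal.ThompsonComplement.pc_of_thompson hp P ?_ ?_
  · have hJ := Cfsg.Agent.Lib.PLocal.ThompsonFunctor.pFunctor_jOf (e := p) (p := p) (Or.inr rfl)
    have h1 := hnorm (Cfsg.Agent.Lib.PLocal.Thompson.jOf p (P : Subgroup G)) (hJ.le _)
      (hJ.ne_bot _ P.isPGroup' hP1) (Subgroup.le_normalizer.trans (hJ.normalizer_le _ P.isPGroup'))
    rw [h1]
    exact hM
  · have hC := Cfsg.Agent.Lib.PLocal.ThompsonFunctor.pFunctor_center (p := p)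
    have hle : (P : Subgroup G) ⊓ centralizer ((P : Subgroup G) : Set G) ≤ P := inf_le_left
    have hne := hC.ne_bot (P : Subgroup G) P.isPGroup' hP1
    have h1 := hnorm _ hle hne (by
      intro u hu
      refine Cfsg.Agent.Lib.Core.CoprimeMap.mem_normalizer_of_forall_conj_mem ?_
      intro x hx
      have e : u * x * u⁻¹ = x := by
        have := Subgroup.mem_centralizer_iff.1 hx.2 u hu
        rw [this]; group
      rw [e]
      exact hx)
    have hle2 : centralizer (((P : Subgroup G) ⊓ centralizer ((P : Subgroup G) : Set G) :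
        Subgroup G) : Set G) ≤ M := by
      rw [← h1]
      intro c hc
      refine Cfsg.Agent.Lib.Core.CoprimeMap.mem_normalizer_of_forall_conj_mem ?_
      intro x hx
      have e : c * x * c⁻¹ = x := (mem_centralizer_iff' (D := _)).1 hc x hx
      rw [e]
      exact hx
    exact hasNormalPComplement_of_injective (Subgroup.inclusion hle2)
      (Subgroup.inclusion_injective hle2) hM

end Cfsg.Agent.Lib.SolvStruct.NilpMax
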